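import Groth.Agent.NFDim6.Basic
import Groth.Agent.NFlat6.Local
import Groth.Agent.NFlat6.Powers
import Groth.Agent.FlatLoc6.NormFlat
import Groth.Agent.Alg6.AssDepth

/-!
# Depth of an extension of a normally flat module by a free piece
-/

set_option autoImplicit false
set_option linter.style.haveILetI false
set_option backward.isDefEq.respectTransparency false
set_option backward.isDefEq.respectTransparency.types false

universe u

open RingTheory.Sequence IsLocalRing

namespace Groth.Agent.DepthSum6

variable {R : Type u} [CommRing R] [IsNoetherianRing R] [IsLocalRing R] {P : Ideal R}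

/-- A regular sequence of `R / P` is regular on every module normally flat along `P`. -/
theorem depth_le_of_normallyFlat (hP : P ≤ maximalIdeal R) (Q : Type u) [AddCommGroup Q] [Module R Q]
    [Module.Finite R Q] (hQ : EGA4.IsNormallyFlat P Q) : LocCoh.depth R (R ⧸ P) ≤ LocCoh.depth R Q := by
  refine ENat.forall_natCast_le_iff_le.1 fun n hn => ?_
  haveI : Nontrivial (R ⧸ P) := Ideal.Quotient.nontrivial_iff.2 fun h =>
    (maximalIdeal.isMaximal R).ne_top (top_le_iff.1 (h ▸ hP))
  obtain ⟨rs, hrs, hmem, hlen⟩ := Alg6.exists_length_ge_of_le_idealDepth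
    (I := maximalIdeal R) (Submodule.top_ne_ideal_smul_of_le_jacobson_annihilator (M := R ⧸ P)
      (maximalIdeal_le_jacobson _)).symm hn
  have hp : NFlat6.RegPieces P rs Q := NFlat6.regPieces_of_nf rs hrs fun i => hQ i
  have h0 := NFlat6.isWeaklyRegular_Pw (R := P)
    (by rw [jacobson_eq_maximalIdeal ⊥ bot_ne_top]; exact hP) rs Q hp 0
  have h1 : IsWeaklyRegular Q rs :=
    (((LinearEquiv.ofEq _ _ NFlat6.Pw_zero).trans Submodule.topEquiv).isWeaklyRegular_congr rs).mp h0
  exact le_trans (Nat.cast_le.2 hlen) (Alg6.length_le_idealDepth h1 hmem)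

/-- The depth of an extension of a normally flat module by a nonzero module killed by `P` and flat over `R / P`. -/
theorem depth_eq_of_extension (hP : P ≤ maximalIdeal R) {W X Q : Type u} [AddCommGroup W] [Module R W]
    [AddCommGroup X] [Module R X] [AddCommGroup Q] [Module R Q] [Module.Finite R W] [Module.Finite R X]
    [Module.Finite R Q] [Nontrivial W] (hW : EGA4.IsNormallyFlat P W) (hkill : ∀ a ∈ P, ∀ w : W, a • w = 0)
    (hQ : EGA4.IsNormallyFlat P Q) (f : W →ₗ[R] X) (g : X →ₗ[R] Q) (hf : Function.Injective f)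
    (hfg : Function.Exact f g) (hg : Function.Surjective g) :
    LocCoh.depth R X = LocCoh.depth R (R ⧸ P) := by
  refine FlatLoc6.depth_extension f g hf hfg hg ?_ (depth_le_of_normallyFlat hP Q hQ)
  obtain ⟨r, ⟨e⟩⟩ := NFDim6.exists_free (M := W) hP hW 0
  have hbot : (P • (⊤ : Submodule R ↥(P ^ 0 • (⊤ : Submodule R W)))) = ⊥ := by
    rw [eq_bot_iff, Submodule.smul_le]
    intro a ha z _
    rw [Submodule.mem_bot]
    exact Subtype.ext (hkill a ha z)
  let e₀ : W ≃ₗ[R] (Fin r → R ⧸ P) :=
    ((Submodule.quotEquivOfEqBot _ hbot).trans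
      ((LinearEquiv.ofEq _ _ (by rw [pow_zero, Ideal.one_eq_top, Submodule.top_smul])).trans Submodule.topEquiv)).symm.trans e
  rcases r with _ | k
  · exact absurd e₀.toEquiv.subsingleton (not_subsingleton W)
  · exact (Hensel.depth_congr e₀).trans (FlatLoc6.depth_pi (R ⧸ P) k)

end Groth.Agent.DepthSum6
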