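import Groth.Agent.DepthSum6.Generic
import Groth.Agent.DepthSum6.Local
import Groth.Agent.SkSeq.Basic
import Groth.Agent.LC.DepthExt
import Groth.Agent.LC.ExtDim
import Groth.Agent.KFlatLib.Ring.LocalFibre
import Groth.Agent.NFDim6.Main

/-!
# Depth and dimension along an irreducible closed subset
-/

set_option autoImplicit false
set_option linter.style.haveILetI false
set_option backward.isDefEq.respectTransparency false
set_option backward.isDefEq.respectTransparency.types false

universe u

open RingTheory.Sequence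

namespace Groth.Agent.DepthSum6

variable {A : Type u} [CommRing A]

/-- Regularity on `M_g` passes to `M_q` for `g ∉ q`. -/
theorem isWeaklyRegular_of_away {M : Type u} [AddCommGroup M] [Module A M] {g : A} (q : Ideal A) [q.IsPrime]
    (hg : g ∉ q) {xs : List A} (h : IsWeaklyRegular (LocalizedModule (Submonoid.powers g) M) xs) :
    IsWeaklyRegular (LocalizedModule q.primeCompl M) (xs.map (algebraMap A (Localization.AtPrime q))) := by
  let ι := LocalizedModule.mkLinearMap (Submonoid.powers g) M
  let ι' := LocalizedModule.mkLinearMap q.primeCompl M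
  have hle : Submonoid.powers g ≤ q.primeCompl := by
    rintro _ ⟨n, rfl⟩ hn
    exact hg (Ideal.IsPrime.mem_of_pow_mem ‹_› n hn)
  let ψ := IsLocalizedModule.lift (Submonoid.powers g) ι ι' fun x => IsLocalizedModule.map_units ι' (⟨x, hle x.2⟩ : q.primeCompl)
  have hψ : ∀ m, ψ (ι m) = ι' m := fun m => IsLocalizedModule.lift_apply _ _ _ _ m
  haveI : IsLocalizedModule q.primeCompl ψ := by
    refine ⟨IsLocalizedModule.map_units ι', fun y => ?_, fun {a b} hab => ?_⟩
    · obtain ⟨⟨m, s⟩, hs⟩ := IsLocalizedModule.surj q.primeCompl ι' y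
      exact ⟨(ι m, s), by rw [hψ]; exact hs⟩
    · obtain ⟨⟨m, s⟩, hs⟩ := IsLocalizedModule.surj (Submonoid.powers g) ι a
      obtain ⟨⟨n, t⟩, ht⟩ := IsLocalizedModule.surj (Submonoid.powers g) ι b
      simp only [Submonoid.smul_def] at hs ht
      have h1 : ι' ((t : A) • m) = ι' ((s : A) • n) := by
        rw [map_smul, map_smul, ← hψ, ← hψ, ← hs, ← ht, map_smul, map_smul, hab, smul_comm]
      obtain ⟨c, hc⟩ := IsLocalizedModule.exists_of_eq (S := q.primeCompl) h1
      simp only [Submonoid.smul_def] at hc
      refine ⟨c * ⟨_, hle s.2⟩ * ⟨_, hle t.2⟩, ?_⟩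
      have h2 := congrArg ι hc
      simp only [map_smul] at h2
      rw [← hs, ← ht] at h2
      simp only [Submonoid.smul_def, Submonoid.coe_mul, smul_smul] at h2 ⊢
      rw [mul_assoc, mul_comm (s : A) t, h2, mul_comm (t : A) s]
  exact h.of_isLocalizedModule (Localization.AtPrime q) q.primeCompl ψ

variable [IsNoetherianRing A]

/-- Depth adds up along `p` near `p`. -/
theorem exists_depth_eq (M : Type u) [AddCommGroup M] [Module A M] [Module.Finite A M] (p : Ideal A) [p.IsPrime]
    (hp : (⟨p, inferInstance⟩ : PrimeSpectrum A) ∈ Module.support A M) :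
    ∃ f : A, f ∉ p ∧ ∀ (q : Ideal A) [q.IsPrime], p ≤ q → f ∉ q →
      LocCoh.depth (Localization.AtPrime q) (LocalizedModule q.primeCompl M) =
        LocCoh.depth (Localization.AtPrime p) (LocalizedModule p.primeCompl M) +
          LocCoh.depth (Localization.AtPrime q) (Localization.AtPrime q ⧸ p.map (algebraMap A (Localization.AtPrime q))) := by
  classical
  haveI : IsNoetherianRing (Localization.AtPrime p) := IsLocalization.isNoetherianRing p.primeCompl _ ‹_›
  haveI : Module.Finite (Localization.AtPrime p) (LocalizedModule p.primeCompl M) :=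
    Module.Finite.of_isLocalizedModule p.primeCompl (LocalizedModule.mkLinearMap p.primeCompl M)
  haveI : Nontrivial (LocalizedModule p.primeCompl M) := hp
  obtain ⟨D, hD⟩ := NFDim6.exists_dim_eq_nat (Localization.AtPrime p) (LocalizedModule p.primeCompl M)
  have hle := LC.depth_le_supportDim (R := Localization.AtPrime p) (M := LocalizedModule p.primeCompl M)
  rw [hD] at hle
  obtain ⟨d, hd⟩ := ENat.ne_top_iff_exists.1 (ne_top_of_le_ne_top (ENat.natCast_ne_top D)
    (WithBot.coe_le_coe.1 hle))
  obtain ⟨g, hg, -, xs, hlen, hxs, hreg⟩ := SkSeq.exists_regular_list p d M hd.symm 1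
    fun h => Ideal.IsPrime.ne_top inferInstance ((Ideal.eq_top_iff_one p).2 h)
  let M' := M ⧸ (Ideal.ofList xs • (⊤ : Submodule A M))
  have hq : ∀ (q : Ideal A) [q.IsPrime], p ≤ q → g ∉ q →
      LocCoh.depth (Localization.AtPrime q) (LocalizedModule q.primeCompl M') + (d : ℕ∞) =
        LocCoh.depth (Localization.AtPrime q) (LocalizedModule q.primeCompl M) := by
    intro q _ hpq hgq
    haveI : IsNoetherianRing (Localization.AtPrime q) := IsLocalization.isNoetherianRing q.primeCompl _ ‹_›
    haveI : Module.Finite (Localization.AtPrime q) (LocalizedModule q.primeCompl M) :=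
      Module.Finite.of_isLocalizedModule q.primeCompl (LocalizedModule.mkLinearMap q.primeCompl M)
    obtain ⟨e⟩ := KFlatLib.exists_localizedQuotSMul q.primeCompl (Ideal.ofList xs) M
    have h1 := LC.idealDepth_quot_ofList (I := IsLocalRing.maximalIdeal (Localization.AtPrime q))
      (isWeaklyRegular_of_away q hgq hreg) fun r hr => by
        obtain ⟨x, hx, rfl⟩ := List.mem_map.1 hr
        exact (IsLocalization.AtPrime.to_map_mem_maximal_iff (Localization.AtPrime q) q x).2 (hpq (hxs x hx))
    rw [List.length_map, hlen, ← Ideal.map_ofList] at h1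
    exact (congrArg (· + (d : ℕ∞)) (Hensel.depth_congr e)).trans h1
  have hM'0 : LocCoh.depth (Localization.AtPrime p) (LocalizedModule p.primeCompl M') = 0 := by
    have h1 := hq p le_rfl hg
    rw [← hd] at h1
    exact WithTop.add_right_cancel (ENat.natCast_ne_top d) (h1.trans (zero_add _).symm)
  obtain ⟨hpp, z, hz⟩ := Alg6.mem_ass_iff.1 ((SkSeq.depth_eq_zero_of_ass M' p).1 hM'0)
  let W : Submodule A M' := Submodule.torsionBySet A M' p
  have hzW : z ∈ W := (Submodule.mem_torsionBySet_iff _ _).2 fun a => (hz a).1 a.2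
  obtain ⟨f₁, hf₁, hnfW⟩ := exists_nf A p W
  obtain ⟨f₂, hf₂, hnfQ⟩ := exists_nf A p (M' ⧸ W)
  refine ⟨g * f₁ * f₂, fun h => ?_, fun q _ hpq hfq => ?_⟩
  · rcases (Ideal.IsPrime.mem_or_mem ‹_› h) with h | h
    · exact (Ideal.IsPrime.mem_or_mem ‹_› h).elim hg hf₁
    · exact hf₂ h
  have hgq : g ∉ q := fun h => hfq (Ideal.mul_mem_right _ _ (Ideal.mul_mem_right _ _ h))
  have hf₁q : f₁ ∉ q := fun h => hfq (Ideal.mul_mem_right _ _ (Ideal.mul_mem_left _ _ h))
  have hf₂q : f₂ ∉ q := fun h => hfq (Ideal.mul_mem_left _ _ h)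
  let R := Localization.AtPrime q
  haveI : IsNoetherianRing R := IsLocalization.isNoetherianRing q.primeCompl _ ‹_›
  let P := p.map (algebraMap A R)
  have hP : P ≤ IsLocalRing.maximalIdeal R := by
    rw [← IsLocalization.AtPrime.map_eq_maximalIdeal q R]
    exact Ideal.map_mono hpq
  haveI : Module.Finite R (LocalizedModule q.primeCompl W) :=
    Module.Finite.of_isLocalizedModule q.primeCompl (LocalizedModule.mkLinearMap q.primeCompl W)
  haveI : Module.Finite R (LocalizedModule q.primeCompl M') :=
    Module.Finite.of_isLocalizedModule q.primeCompl (LocalizedModule.mkLinearMap q.primeCompl M')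
  haveI : Module.Finite R (LocalizedModule q.primeCompl (M' ⧸ W)) :=
    Module.Finite.of_isLocalizedModule q.primeCompl (LocalizedModule.mkLinearMap q.primeCompl (M' ⧸ W))
  haveI : Nontrivial (LocalizedModule q.primeCompl W) := by
    show (⟨q, inferInstance⟩ : PrimeSpectrum A) ∈ Module.support A W
    refine Module.mem_support_iff'.2 ⟨⟨z, hzW⟩, fun a ha h0 => ?_⟩
    exact ha (hpq ((hz a).2 (congrArg Subtype.val h0)))
  have hkill : ∀ a ∈ P, ∀ w : LocalizedModule q.primeCompl W, a • w = 0 := by
    intro a ha
    induction ha using Submodule.span_induction with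
    | mem a ha =>
      obtain ⟨b, hb, rfl⟩ := ha
      intro w
      induction w using LocalizedModule.induction_on with
      | h m s =>
        rw [algebraMap_smul, LocalizedModule.smul'_mk,
          show b • m = 0 from Subtype.ext ((Submodule.mem_torsionBySet_iff _ _).1 m.2 ⟨b, hb⟩),
          LocalizedModule.zero_mk]
    | zero => intro w; rw [zero_smul]
    | add a b _ _ ha hb => intro w; rw [add_smul, ha, hb, add_zero]
    | smul c a _ ha => intro w; rw [smul_eq_mul, mul_smul, ha, smul_zero]
  have key := depth_eq_of_extension hP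
    (hnfW q.primeCompl (IsLocalization.map_units R (⟨f₁, hf₁q⟩ : q.primeCompl))) hkill
    (hnfQ q.primeCompl (IsLocalization.map_units R (⟨f₂, hf₂q⟩ : q.primeCompl)))
    (LocalizedModule.map q.primeCompl W.subtype) (LocalizedModule.map q.primeCompl W.mkQ)
    (LocalizedModule.map_injective _ _ (Submodule.subtype_injective W))
    (LocalizedModule.map_exact _ _ _ (LinearMap.exact_subtype_mkQ W))
    (LocalizedModule.map_surjective _ _ (Submodule.mkQ_surjective W))
  rw [← hq q hpq hgq, key, ← hd, add_comm]

/-- The quotient by an ideal, localised. -/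
theorem exists_localized_quotient (I : Ideal A) (q : Ideal A) [q.IsPrime] :
    Nonempty (LocalizedModule q.primeCompl (A ⧸ I) ≃ₗ[Localization.AtPrime q]
      Localization.AtPrime q ⧸ I.map (algebraMap A (Localization.AtPrime q))) :=
  ⟨(IsLocalizedModule.isBaseChange q.primeCompl (Localization.AtPrime q)
      (LocalizedModule.mkLinearMap q.primeCompl (A ⧸ I))).equiv.symm.trans
    (Algebra.TensorProduct.quotIdealMapEquivTensorQuot (Localization.AtPrime q) I).symm.toLinearEquiv⟩

end Groth.Agent.DepthSum6
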